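import Cfsg.Agent.H122.Pw.Eig
import Cfsg.Agent.H538.TC.SLThree
import Cfsg.Agent.H267.Ore.PTwo
import Cfsg.Agent.H514.DP.OrdElt

/-!
# Elements of `SL₃(q)` of order `m ∣ q² + q + 1` and of `SL₂(q)` of prime order (helper240, S2464)
-/

set_option autoImplicit false
set_option linter.unusedSectionVars false

namespace Cfsg.Agent.H240.E8S

open Polynomial Matrix
open Cfsg.Agent.H126.M3 (cu charpoly_three)
open Cfsg.Agent.H538.TC (Co charpoly_of)
open Cfsg.Agent.H162.GaussSL (LT UT mem_LT mem_UT)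
open Cfsg.Agent.H267.Ore.PTwo
open Cfsg.Agent.H194.Pw (Spec)

universe u

/-! ### Splitting -/

section split

variable {K : Type*} [Field K] [Finite K] {L : Type*} [Field L] [Finite L] [Algebra K L]

theorem split_of_root {f : K[X]} (h : Irreducible f) (hm : f.Monic) {n : ℕ} (hd : f.natDegree = n) {z : L}
    (hz : aeval z f = 0) : f.map (algebraMap K L) = ∏ a : Fin n, (X - C (z ^ (Nat.card K ^ (a : ℕ)))) := by
  classical
  have := Fintype.ofFinite K
  have hmin : minpoly K z = f := (minpoly.eq_of_irreducible_of_monic h hz hm).symm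
  have hdm : (minpoly K z).natDegree = n := by rw [hmin, hd]
  have hcard : Fintype.card K = Nat.card K := (Nat.card_eq_fintype_card).symm
  have hinj : Function.Injective fun a : Fin n => z ^ (Nat.card K ^ (a : ℕ)) := by
    have := Cfsg.Agent.H934.MF.pow_inj hdm
    rwa [hcard] at this
  have hroot : ∀ a : ℕ, (f.map (algebraMap K L)).IsRoot (z ^ (Nat.card K ^ a)) := by
    intro a
    rw [IsRoot.def, eval_map_algebraMap, ← hcard]
    exact Cfsg.Agent.H934.MF.root_pow hz a
  have h1 : (∏ a : Fin n, (X - C (z ^ (Nat.card K ^ (a : ℕ))))) ∣ f.map (algebraMap K L) := by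
    refine Finset.prod_dvd_of_coprime ?_ fun a _ => dvd_iff_isRoot.2 (hroot a)
    intro a _ b _ hab
    exact isCoprime_X_sub_C_of_isUnit_sub (sub_ne_zero.2 (fun h => hab (hinj h))).isUnit
  have h2 : (∏ a : Fin n, (X - C (z ^ (Nat.card K ^ (a : ℕ))))).Monic :=
    monic_prod_of_monic _ _ fun a _ => monic_X_sub_C _
  have h3 : (∏ a : Fin n, (X - C (z ^ (Nat.card K ^ (a : ℕ))))).natDegree = n := by
    rw [natDegree_prod_of_monic _ _ fun a _ => monic_X_sub_C _, Finset.sum_congr rfl fun a _ => natDegree_X_sub_C _]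
    simp
  refine (eq_of_monic_of_dvd_of_natDegree_le h2 (hm.map _) h1 ?_)
  rw [h3, natDegree_map, hd]

theorem coeff_zero_three {f : K[X]} (h : Irreducible f) (hm : f.Monic) (hd : f.natDegree = 3) {z : L}
    (hz : aeval z f = 0) (hn : z ^ (Nat.card K ^ 2 + Nat.card K + 1) = 1) : f.coeff 0 = -1 := by
  apply (algebraMap K L).injective
  rw [← coeff_map, split_of_root h hm hd hz, coeff_zero_eq_eval_zero, eval_prod]
  simp only [eval_sub, eval_X, eval_C, zero_sub, Fin.prod_univ_three]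
  have h1 : z ^ Nat.card K ^ ((0 : Fin 3) : ℕ) * z ^ Nat.card K ^ ((1 : Fin 3) : ℕ) * z ^ Nat.card K ^ ((2 : Fin 3) : ℕ) = 1 := by
    rw [← pow_add, ← pow_add, ← hn]
    congr 1
    simp
    ring
  rw [map_neg, map_one]
  linear_combination -h1

end split

theorem exists_companion {K : Type*} [Field K] {f : K[X]} (hm : f.Monic) (hd : f.natDegree = 3) (h0 : f.coeff 0 = -1) :
    ∃ A : SpecialLinearGroup (Fin 3) K, (A : Matrix (Fin 3) (Fin 3) K).charpoly = f := by
  have hf : f = cu (-f.coeff 2) (f.coeff 1) := by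
    conv_lhs => rw [hm.as_sum, hd]
    rw [Finset.sum_range_succ, Finset.sum_range_succ, Finset.sum_range_succ, Finset.sum_range_zero, h0, cu]
    simp only [map_neg, map_one, pow_zero, pow_one]
    ring
  have hdet : (Co (-f.coeff 2) (f.coeff 1)).det = 1 := by
    rw [Co, Matrix.det_fin_three]
    simp
  refine ⟨⟨Co (-f.coeff 2) (f.coeff 1), hdet⟩, ?_⟩
  conv_rhs => rw [hf]
  refine charpoly_of hdet ?_ ?_
  · simp [Co]
  · simp [Co]

/-! ### `SL₃(q)` -/

section three

variable {K : Type u} [Field K] [Finite K]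

theorem exists_u {m : ℕ} (hm : m ∣ Nat.card K ^ 3 - 1) : ∃ (L : Type) (_ : Field L) (_ : Finite L) (_ : Algebra K L),
    Module.finrank K L = 3 ∧ ∃ w : L, orderOf w = m := by
  obtain ⟨L, _, _, ⟨b⟩⟩ := Cfsg.Agent.H514.DP.exists_ext (F := K) (n := 3) (by norm_num)
  have : Module.Finite K L := Module.Finite.of_basis b
  have hfin : Finite L := Module.finite_of_finite K
  have hfr : Module.finrank K L = 3 := by rw [Module.finrank_eq_card_basis b, Fintype.card_fin]
  refine ⟨L, inferInstance, hfin, inferInstance, hfr, ?_⟩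
  have hc : Nat.card Lˣ = Nat.card K ^ 3 - 1 := by
    have := Fintype.ofFinite L
    have := Fintype.ofFinite K
    rw [Nat.card_units, Module.natCard_eq_pow_finrank (K := K) (V := L), hfr]
  obtain ⟨g, hg⟩ := IsCyclic.exists_ofOrder_eq_natCard (α := Lˣ)
  rw [hc] at hg
  obtain ⟨k, hk⟩ := hm
  have hpos : 0 < Nat.card K ^ 3 - 1 := by
    have h1 : 1 < Nat.card K := Finite.one_lt_card
    have h2 : 1 < Nat.card K ^ 3 := Nat.one_lt_pow (by norm_num) h1
    omega
  have hk0 : k ≠ 0 := by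
    rintro rfl
    omega
  refine ⟨((g ^ k : Lˣ) : L), ?_⟩
  rw [orderOf_units, orderOf_pow_of_dvd hk0 (by rw [hg, hk]; exact dvd_mul_left _ _), hg, hk,
    Nat.mul_div_cancel _ (Nat.pos_of_ne_zero hk0)]

theorem minpoly_three {L : Type*} [Field L] [Finite L] [Algebra K L] (hfr : Module.finrank K L = 3) {m : ℕ}
    (hmc : m.Coprime (Nat.card K - 1)) {w : L} (hw : orderOf w ∣ m) (h1 : w ≠ 1) (h0 : w ≠ 0) :
    (minpoly K w).natDegree = 3 := by
  have hfin : Module.Finite K L := Module.finite_of_finrank_pos (by rw [hfr]; norm_num)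
  have hint : IsIntegral K w := Algebra.IsIntegral.isIntegral w
  have hdvd : (minpoly K w).natDegree ∣ 3 := by
    have := minpoly.degree_dvd hint
    rwa [hfr] at this
  rcases (Nat.dvd_prime Nat.prime_three).1 hdvd with h | h
  · exfalso
    rw [minpoly.natDegree_eq_one_iff] at h
    obtain ⟨a, rfl⟩ := h
    have := Fintype.ofFinite K
    have ha : a ≠ 0 := by
      rintro rfl
      exact h0 (map_zero _)
    have h2 := FiniteField.pow_card_sub_one_eq_one a ha
    rw [← Nat.card_eq_fintype_card] at h2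
    have h3 : (algebraMap K L a) ^ (Nat.card K - 1) = 1 := by rw [← map_pow, h2, map_one]
    have h4 := Nat.dvd_gcd hw (orderOf_dvd_of_pow_eq_one h3)
    rw [hmc] at h4
    exact h1 (orderOf_eq_one_iff.1 (Nat.dvd_one.1 h4))
  · exact h

/-- **Two elements of order `m`, the eigenvalues of the second are the squares of the eigenvalues of the first.** -/
theorem exists_xy {m : ℕ} (hm1 : 1 < m) (hmd : m ∣ Nat.card K ^ 2 + Nat.card K + 1) (hmc : m.Coprime (Nat.card K - 1))
    (hodd : Odd m) :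
    ∃ A B : SpecialLinearGroup (Fin 3) K, Irreducible (A : Matrix (Fin 3) (Fin 3) K).charpoly ∧
      Irreducible (B : Matrix (Fin 3) (Fin 3) K).charpoly ∧ A ^ m = 1 ∧ B ^ m = 1 ∧
      ∀ (K' : Type u) [Field K'] [Finite K'] [Algebra K K'] (z : K'),
        aeval z (A : Matrix (Fin 3) (Fin 3) K).charpoly = 0 →
        orderOf z = m ∧ aeval (z ^ 2) (B : Matrix (Fin 3) (Fin 3) K).charpoly = 0 := by
  have hq : 1 ≤ Nat.card K := Nat.card_pos
  have hdm3 : m ∣ Nat.card K ^ 3 - 1 := by
    have h1 : Nat.card K ^ 3 - 1 = (Nat.card K ^ 2 + Nat.card K + 1) * (Nat.card K - 1) := by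
      obtain ⟨k, hk⟩ : ∃ k, Nat.card K = k + 1 := ⟨Nat.card K - 1, by omega⟩
      rw [hk, Nat.add_sub_cancel]
      have : (k + 1) ^ 3 = ((k + 1) ^ 2 + (k + 1) + 1) * k + 1 := by ring
      rw [this, Nat.add_sub_cancel]
    rw [h1]
    exact hmd.mul_right _
  obtain ⟨L, _, hfin, _, hfr, w, hw⟩ := exists_u (K := K) hdm3
  have hwm : w ^ m = 1 := by rw [← hw, pow_orderOf_eq_one]
  have hw0 : w ≠ 0 := by
    rintro rfl
    rw [zero_pow (by omega)] at hwm
    exact zero_ne_one hwm
  have hw1 : w ≠ 1 := by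
    rintro rfl
    rw [orderOf_one] at hw
    omega
  have hw2 : orderOf (w ^ 2) = m := by
    have hcop : (orderOf w).Coprime 2 := by
      rw [hw]
      exact Nat.coprime_two_right.2 hodd
    rw [hcop.orderOf_pow, hw]
  have hw21 : w ^ 2 ≠ 1 := by
    intro h
    rw [h, orderOf_one] at hw2
    omega
  have hfinm : Module.Finite K L := Module.finite_of_finrank_pos (by rw [hfr]; norm_num)
  have hA : ∀ v : L, orderOf v = m → v ≠ 1 → v ≠ 0 → ∃ A : SpecialLinearGroup (Fin 3) K,
      (A : Matrix (Fin 3) (Fin 3) K).charpoly = minpoly K v ∧ A ^ m = 1 := by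
    intro v hv h1 h0
    have hint : IsIntegral K v := Algebra.IsIntegral.isIntegral v
    have hvm : v ^ m = 1 := by rw [← hv, pow_orderOf_eq_one]
    have hd := minpoly_three hfr hmc (hv ▸ dvd_rfl) h1 h0
    have hc := coeff_zero_three (minpoly.irreducible hint) (minpoly.monic hint) hd (minpoly.aeval K v) (by
      obtain ⟨k, hk⟩ := hmd
      rw [hk, pow_mul, hvm, one_pow])
    obtain ⟨A, hA⟩ := exists_companion (minpoly.monic hint) hd hc
    refine ⟨A, hA, ?_⟩
    have h2 : minpoly K v ∣ (X ^ m - 1 : K[X]) := minpoly.dvd K v (by simp [hvm])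
    rw [← hA] at h2
    obtain ⟨c, hc⟩ := h2
    have h3 : aeval (A : Matrix (Fin 3) (Fin 3) K) (X ^ m - 1 : K[X]) = 0 := by
      rw [hc, map_mul, Matrix.aeval_self_charpoly, zero_mul]
    rw [map_sub, map_pow, aeval_X, map_one, sub_eq_zero] at h3
    apply Subtype.ext
    rw [Matrix.SpecialLinearGroup.coe_pow, h3, Matrix.SpecialLinearGroup.coe_one]
  obtain ⟨A, hAc, hAm⟩ := hA w hw hw1 hw0
  obtain ⟨B, hBc, hBm⟩ := hA (w ^ 2) hw2 hw21 (pow_ne_zero _ hw0)
  have hint : IsIntegral K w := Algebra.IsIntegral.isIntegral w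
  have hint2 : IsIntegral K (w ^ 2) := Algebra.IsIntegral.isIntegral _
  refine ⟨A, B, by rw [hAc]; exact minpoly.irreducible hint, by rw [hBc]; exact minpoly.irreducible hint2, hAm, hBm, ?_⟩
  intro K' _ _ _ z hz
  rw [hAc] at hz
  have key : ∀ g : K[X], aeval w g = 0 → aeval z g = 0 := by
    intro g hg
    obtain ⟨c, hc⟩ := minpoly.dvd K w hg
    rw [hc, map_mul, hz, zero_mul]
  have key' : ∀ g : K[X], aeval z g = 0 → aeval w g = 0 := by
    intro g hg
    have h1 : minpoly K w = minpoly K z := minpoly.eq_of_irreducible_of_monic (minpoly.irreducible hint) hz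
      (minpoly.monic hint)
    obtain ⟨c, hc⟩ := minpoly.dvd K z hg
    rw [hc, map_mul, ← h1, minpoly.aeval, zero_mul]
  constructor
  · have h1 : ∀ k : ℕ, z ^ k = 1 ↔ w ^ k = 1 := by
      intro k
      constructor
      · intro h
        have := key' (X ^ k - 1) (by simp [h])
        simpa [sub_eq_zero] using this
      · intro h
        have := key (X ^ k - 1) (by simp [h])
        simpa [sub_eq_zero] using this
    rw [← hw]
    exact orderOf_eq_orderOf_iff.2 h1
  · rw [hBc]
    have h1 := key ((minpoly K (w ^ 2)).comp (X ^ 2)) (by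
      rw [aeval_comp, map_pow, aeval_X, minpoly.aeval])
    rwa [aeval_comp, map_pow, aeval_X] at h1

end three

/-! ### `SL₂(q)` -/

section two

variable {K : Type u} [Field K]

theorem charpoly_two (A : SpecialLinearGroup (Fin 2) K) :
    (A : Matrix (Fin 2) (Fin 2) K).charpoly = X ^ 2 - C (tc A) * X + 1 := by
  rw [Matrix.charpoly_fin_two, Matrix.trace_fin_two, A.2, map_one]
  rfl

theorem root_two {L : Type*} [Field L] [Algebra K L] {A : SpecialLinearGroup (Fin 2) K} {v : L}
    (h : aeval v (A : Matrix (Fin 2) (Fin 2) K).charpoly = 0) :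
    v ≠ 0 ∧ algebraMap K L (tc A) = v + v⁻¹ ∧
      (A : Matrix (Fin 2) (Fin 2) K).charpoly.map (algebraMap K L) = (X - C v) * (X - C v⁻¹) := by
  rw [charpoly_two] at h
  simp only [map_add, map_sub, map_mul, map_pow, aeval_X, aeval_C, map_one] at h
  have h0 : v ≠ 0 := by
    rintro rfl
    simp at h
  have h1 : algebraMap K L (tc A) = v + v⁻¹ := by
    field_simp
    linear_combination -h
  refine ⟨h0, h1, ?_⟩
  rw [charpoly_two]
  simp only [Polynomial.map_add, Polynomial.map_sub, Polynomial.map_mul, Polynomial.map_pow, Polynomial.map_X,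
    Polynomial.map_C, Polynomial.map_one]
  rw [h1, map_add]
  have h2 : (C v * C v⁻¹ : L[X]) = 1 := by rw [← map_mul, mul_inv_cancel₀ h0, map_one]
  linear_combination -h2

theorem inv_ne {L : Type*} [Field L] [Algebra K L] {A : SpecialLinearGroup (Fin 2) K} {v : L}
    (h : aeval v (A : Matrix (Fin 2) (Fin 2) K).charpoly = 0) (h1 : tc A ≠ 2) (h2 : tc A ≠ -2) : v ≠ v⁻¹ := by
  obtain ⟨h0, h3, -⟩ := root_two h
  intro h4
  rw [← h4] at h3
  have h5 : v * v = 1 := by
    calc v * v = v * v⁻¹ := by rw [← h4]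
      _ = 1 := mul_inv_cancel₀ h0
  have h6 : (v - 1) * (v + 1) = 0 := by linear_combination h5
  rcases mul_eq_zero.1 h6 with h7 | h7
  · apply h1
    apply (algebraMap K L).injective
    rw [h3, sub_eq_zero.1 h7, map_ofNat]
    norm_num
  · apply h2
    apply (algebraMap K L).injective
    rw [h3, eq_neg_of_add_eq_zero_left h7, map_neg, map_ofNat]
    norm_num

theorem cls_two [Finite K] {A : SpecialLinearGroup (Fin 2) K} (h1 : tc A ≠ 2) (h2 : tc A ≠ -2) :
    Cfsg.Agent.H150.MF.Cls (A : Matrix (Fin 2) (Fin 2) K) := by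
  by_cases hirr : Irreducible (A : Matrix (Fin 2) (Fin 2) K).charpoly
  · exact Cfsg.Agent.H150.MF.cls_of_irreducible hirr
  · have hm := Matrix.charpoly_monic (A : Matrix (Fin 2) (Fin 2) K)
    have hd : (A : Matrix (Fin 2) (Fin 2) K).charpoly.natDegree = 2 := by
      rw [Matrix.charpoly_natDegree_eq_dim, Fintype.card_fin]
    rw [hm.irreducible_iff_roots_eq_zero_of_degree_le_three (by omega) (by omega)] at hirr
    obtain ⟨v, hv⟩ := Multiset.exists_mem_of_ne_zero hirr
    have hv' : aeval v (A : Matrix (Fin 2) (Fin 2) K).charpoly = 0 := by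
      rw [coe_aeval_eq_eval]
      exact (mem_roots hm.ne_zero).1 hv
    obtain ⟨h0, h3, h4⟩ := root_two hv'
    rw [Algebra.algebraMap_self, Polynomial.map_id] at h4
    have hne := inv_ne hv' h1 h2
    refine (Cfsg.Agent.H150.MF.niceM_of h4 (irreducible_X_sub_C _).squarefree ?_).cls
    rw [eval_sub, eval_X, eval_C]
    exact sub_ne_zero.2 hne

/-- the trace is a complete invariant -/
theorem conj_two [Finite K] {A B : SpecialLinearGroup (Fin 2) K} (h : tc B = tc A) (h1 : tc A ≠ 2) (h2 : tc A ≠ -2) :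
    ∃ g : SpecialLinearGroup (Fin 2) K, B = g * A * g⁻¹ :=
  Cfsg.Agent.H150.MF.exists_conj (cls_two h1 h2) (cls_two (by rwa [h]) (by rwa [h])) (by
    rw [charpoly_two, charpoly_two, h])

/-- the eigenvalues -/
theorem exists_v {r : ℕ} (hr : r.Prime) (h5 : 5 ≤ r) (h0 : (r : K) ≠ 0) {A : SpecialLinearGroup (Fin 2) K}
    (hA : orderOf A = r) {L : Type*} [Field L] [Algebra K L]
    (hs : Splits ((A : Matrix (Fin 2) (Fin 2) K).charpoly.map (algebraMap K L))) :
    ∃ v : L, orderOf v = r ∧ v ≠ 0 ∧ Function.Injective (![v, v⁻¹] : Fin 2 → L) ∧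
      (A : Matrix (Fin 2) (Fin 2) K).charpoly.map (algebraMap K L) = ∏ a : Fin 2, (X - C ((![v, v⁻¹] : Fin 2 → L) a)) := by
  obtain ⟨h1, h2, -, -⟩ := tc_facts hr h5 h0 hA
  obtain ⟨v, hv⟩ := hs.exists_eval_eq_zero (by
    rw [degree_map, Matrix.charpoly_degree_eq_dim]
    norm_num)
  have hv' : aeval v (A : Matrix (Fin 2) (Fin 2) K).charpoly = 0 := by rwa [← eval_map_algebraMap]
  obtain ⟨hv0, h3, h4⟩ := root_two hv'
  have hne := inv_ne hv' h1 h2
  have hinj : Function.Injective (![v, v⁻¹] : Fin 2 → L) := by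
    intro a b hab
    fin_cases a <;> fin_cases b
    · rfl
    · exact absurd hab hne
    · exact absurd hab.symm hne
    · rfl
  have hsp : (A : Matrix (Fin 2) (Fin 2) K).charpoly.map (algebraMap K L) =
      ∏ a : Fin 2, (X - C ((![v, v⁻¹] : Fin 2 → L) a)) := by
    rw [h4, Fin.prod_univ_two]
    rfl
  obtain ⟨g, hg⟩ := Cfsg.Agent.H934.MF.diag_map (algebraMap K L) (A : Matrix (Fin 2) (Fin 2) K) hinj hsp
  have hpow : v ^ r = 1 := by
    have e1 : ((A : Matrix (Fin 2) (Fin 2) K).map (algebraMap K L)) ^ r = 1 := by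
      have e2 : (A : Matrix (Fin 2) (Fin 2) K) ^ r = 1 := by
        rw [← Matrix.SpecialLinearGroup.coe_pow, ← hA, pow_orderOf_eq_one, Matrix.SpecialLinearGroup.coe_one]
      have e3 := congrArg (fun M : Matrix (Fin 2) (Fin 2) K => (algebraMap K L).mapMatrix M) e2
      simp only [map_pow, map_one] at e3
      exact e3
    have e2 : ∀ k : ℕ, ((g : Matrix (Fin 2) (Fin 2) L) * diagonal (![v, v⁻¹] : Fin 2 → L) *
        ((g⁻¹ : GL (Fin 2) L) : Matrix (Fin 2) (Fin 2) L)) ^ k = (g : Matrix (Fin 2) (Fin 2) L) *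
        diagonal (![v, v⁻¹] : Fin 2 → L) ^ k * ((g⁻¹ : GL (Fin 2) L) : Matrix (Fin 2) (Fin 2) L) := by
      intro k
      exact Units.conj_pow g _ k
    rw [hg, e2] at e1
    have e3 : diagonal (![v, v⁻¹] : Fin 2 → L) ^ r = 1 := by
      have e4 : ((g⁻¹ : GL (Fin 2) L) : Matrix (Fin 2) (Fin 2) L) * (g : Matrix (Fin 2) (Fin 2) L) = 1 := by
        rw [← Units.val_mul, inv_mul_cancel, Units.val_one]
      calc diagonal (![v, v⁻¹] : Fin 2 → L) ^ r = ((g⁻¹ : GL (Fin 2) L) : Matrix (Fin 2) (Fin 2) L) *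
            ((g : Matrix (Fin 2) (Fin 2) L) * diagonal (![v, v⁻¹] : Fin 2 → L) ^ r *
              ((g⁻¹ : GL (Fin 2) L) : Matrix (Fin 2) (Fin 2) L)) * (g : Matrix (Fin 2) (Fin 2) L) := by
            rw [Matrix.mul_assoc, Matrix.mul_assoc, Matrix.mul_assoc, e4, Matrix.mul_one, ← Matrix.mul_assoc, e4,
              Matrix.one_mul]
        _ = 1 := by rw [e1, Matrix.mul_one, e4]
    rw [Matrix.diagonal_pow, ← Matrix.diagonal_one] at e3
    have e5 := congrFun (Matrix.diagonal_injective e3) 0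
    simpa using e5
  have hv1 : v ≠ 1 := by
    rintro rfl
    apply h1
    apply (algebraMap K L).injective
    rw [h3, map_ofNat]
    norm_num
  have : Fact r.Prime := ⟨hr⟩
  exact ⟨v, orderOf_eq_prime hpow hv1, hv0, hinj, hsp⟩

end two

/-! ### Lower times diagonal times upper -/

theorem lku_ns {K : Type*} [Field K] {n : ℕ} {L U : SpecialLinearGroup (Fin n) K} (hL : L ∈ LT n K) (hU : U ∈ UT n K)
    {lam : Fin n → K} {h : ∏ b, lam b = 1} {i j : Fin n} (hij : lam i ≠ lam j) (a : K) :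
    ((L * Cfsg.Agent.H482.Ore.Fix.dgl lam h * U : SpecialLinearGroup (Fin n) K) : Matrix (Fin n) (Fin n) K) ≠
      a • (1 : Matrix (Fin n) (Fin n) K) := by
  intro e
  have hL' := mem_LT.1 (inv_mem hL)
  have hU' := mem_UT.1 hU
  have e1 : diagonal lam * U.1 = a • (L⁻¹).1 := by
    have e2 : (L⁻¹).1 * (L.1 * diagonal lam * U.1) = (L⁻¹).1 * (a • (1 : Matrix (Fin n) (Fin n) K)) := by
      congr 1
    have e3 : (L⁻¹).1 * L.1 = 1 := congrArg Subtype.val (inv_mul_cancel L)
    rw [Matrix.mul_assoc, ← Matrix.mul_assoc (L⁻¹).1, e3, Matrix.one_mul] at e2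
    rw [e2, Matrix.mul_smul, Matrix.mul_one]
  have key : ∀ k, lam k = a := by
    intro k
    have e2 := congrFun (congrFun e1 k) k
    rw [Matrix.diagonal_mul, hU'.2, mul_one, Matrix.smul_apply, hL'.2, smul_eq_mul, mul_one] at e2
    exact e2
  exact hij (by rw [key, key])

end Cfsg.Agent.H240.E8S
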