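import Cfsg.Agent.H122.Pw.Pc
import Cfsg.Agent.H122.SX.GaussH
import Cfsg.Agent.H777.T6.Defs

/-!
# Two fixed classes from a Levi subgroup with several blocks and a prescribed torus part (helper240, S2464)

* `t6_of_pc` : `φ` a homomorphism onto a product of blocks of a Levi subgroup (`H122.Pw.Pc`), `φ k` in the torus, every
  `v k u` (`v` lower, `u` upper) a product of a conjugate of `x` and a conjugate of `y`, and no fixed points of `φ x`, `φ y`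
  on `V_J`, `V_J⁻`.
-/

set_option autoImplicit false
set_option linter.unusedSectionVars false

namespace Cfsg.Agent.H240.E8S

open CoxeterSystem Cfsg.Agent.ChevalleyStructure.CoxeterGeom Cfsg.Agent.Tits.Roots Cfsg.Agent.Tits.Core
  Cfsg.Agent.Nodes.Reps Cfsg.Agent.Nodes.BNOf Cfsg.Agent.Nodes.RGDLib Cfsg.Agent.Nodes.Bruhat
  Cfsg.Agent.Nodes.OppDec Cfsg.Agent.Nodes.LeviDec Cfsg.Agent.Nodes.KindChev Cfsg.Agent.Nodes.ChevCls
  Cfsg.Agent.OddHalf.NI.ModelChev Cfsg.Agent.Nodes.StabComb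
  Cfsg.Agent.H162.GaussDec Cfsg.Agent.H162.GaussLevi Cfsg.Agent.H162.GaussSL Cfsg.Agent.H162.GaussReg
  Cfsg.Agent.H162.GaussPQ
  Cfsg.Agent.H928.Ore.Frame Cfsg.Agent.H928.Ore.Fix
open Cfsg.Lie Cfsg.Agent.ChevalleyStructure Cfsg.Agent.ChevalleyStructure.Elts
  Cfsg.Agent.ChevalleyStructure.RootVec Cfsg.Agent.ChevalleyStructure.NPerm
  Cfsg.Agent.ChevalleyStructure.CoxeterGeomTypes Cfsg.Agent.Nodes.RGDChev Cfsg.Agent.KFacts.RgdChevCoord
open Cfsg.Agent.H162.GaussExc (coord)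
open Cfsg.Agent.H122.Pw Cfsg.Agent.H777.T6

universe u

section

variable {D : ChevalleyDatum} {l : ℕ} {M : CoxeterMatrix (Fin l)} {hp : IsType D l M} {K : Type u} [Field K]
  {J : Set (Fin l)} {G : Type*} [Group G] {φ : G →* ↥(D.group K)} {L U : Subgroup G} {Q : ℕ → Prop}

/-- **Two fixed classes.** -/
theorem t6_of_pc [Finite K] (h : Pc hp K J φ L U Q) (hQ : ∀ q < D.nroots, (∀ k, k ∉ J → vec D l q k = 0) → Q q)
    (hl : 0 < l) (hS : IsSimpleGroup ↥(D.group K) ∧ ¬ IsMulCommutative ↥(D.group K))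
    (hM : ∀ J : Finset (Fin l), J = ∅ ∨ J = Finset.univ ∨ ∃ a ∈ J, ∃ b, b ∉ J ∧ M a b ≠ 2)
    {k x y : G} (hk : φ k ∈ TT D K)
    (hP : ∀ v ∈ L, ∀ u ∈ U, ∃ a b, v * k * u = (a * x * a⁻¹) * (b * y * b⁻¹))
    (hx : NF (VJ M.toCoxeterSystem hp.isCartan (XX D l K) J) (φ x) ∧
      NF (VNJ M.toCoxeterSystem hp.isCartan (XX D l K) J) (φ x))
    (hy : NF (VJ M.toCoxeterSystem hp.isCartan (XX D l K) J) (φ y) ∧
      NF (VNJ M.toCoxeterSystem hp.isCartan (XX D l K) J) (φ y))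
    (hox : Nat.Coprime (orderOf (φ x)) 6) (hoy : Nat.Coprime (orderOf (φ y)) 6) : T6 ↥(D.group K) := by
  refine ⟨φ x, φ y, hox, hoy, fun g hg => ?_⟩
  obtain ⟨p, hpc⟩ := CharP.exists K
  have : Fact p.Prime := ⟨(CharP.char_is_prime_or_zero K p).resolve_right (CharP.char_ne_zero_of_finite K p)⟩
  have := finite_W hp M.toCoxeterSystem
  have : Nonempty (Fin l) := ⟨⟨0, hl⟩⟩
  have R := rgd (K := K) hp M.toCoxeterSystem p
  obtain ⟨c₁, c₂, z, w, ⟨⟨z', hz⟩, w', hw⟩, e⟩ := Cfsg.Agent.H122.SX.pair_h (rgd (K := K) hp M.toCoxeterSystem p)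
    (G1_eq_top hp _) (coord hp) (Cfsg.Agent.Nodes.ChevChart.irr_of hM) (J := J)
    (Pr := fun c₁ c₂ : ↥(D.group K) => (∃ z, c₁ = z * φ x * z⁻¹) ∧ ∃ w, c₂ = w * φ y * w⁻¹) hk
    (fun v hv u hu => by
      obtain ⟨v, hv', rfl⟩ := h.exists_lo hQ hv
      obtain ⟨u, hu', rfl⟩ := h.exists_up hQ hu
      obtain ⟨a, b, e⟩ := hP v hv' u hu'
      refine ⟨φ (a * x * a⁻¹), φ (b * y * b⁻¹), by rw [← map_mul, ← map_mul, e, map_mul],
        ⟨h.mem _, h.mem _, ?_, ?_⟩, ⟨φ a, by rw [map_mul, map_mul, map_inv]⟩, φ b, by rw [map_mul, map_mul, map_inv]⟩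
      · rw [map_mul, map_mul, map_inv]
        exact NF.conj (LJ_le_normalizer_VNJ R J (h.mem a)) hx.2
      · rw [map_mul, map_mul, map_inv]
        exact NF.conj (LJ_le_normalizer_VJ R J (h.mem b)) hy.1)
    (Cfsg.Agent.H224.Ore.Row.not_mem_core hl hS.1 p hp hg)
  refine ⟨z * z', w * w', ?_⟩
  rw [e, hz, hw]
  group

end

end Cfsg.Agent.H240.E8S
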