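import Cfsg.Agent.H240.E8S.Row
import Cfsg.Agent.H937.TC.RankOne

/-!
# S2464: `E₈(q)`, `q ≥ 8`, `q ≠ 17` (helper240)

* `t6_E8_of` : with the numerical data `m`, `r`;
* `t6_E8_gen` : `8 ≤ q`, `q ≠ 17`.
-/

set_option autoImplicit false
set_option linter.unusedSectionVars false

namespace Cfsg.Agent.H240.E8S

open Cfsg.Lie Cfsg.Agent.Nodes.RGDChev
open Cfsg.Agent.H162.GaussSL (LT UT mem_LT mem_UT)
open Cfsg.Agent.H482.Ore.Fix (dgl hab')
open Cfsg.Agent.H122.Pw Cfsg.Agent.H777.T6 Cfsg.Agent.H267.Ore.PTwo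
open Cfsg.Agent.H538.TC (Good good_of exists_z sl_three charpoly_of)
open Cfsg.Agent.H126.M3 (cu)
open Matrix (SpecialLinearGroup)

universe u

variable {K : Type u} [Field K] [Finite K]

theorem exists_t (hq : 4 ≤ Nat.card K) : ∃ t : Kˣ, (t : K) ≠ 1 ∧ (t : K) ≠ ((t⁻¹ : Kˣ) : K) := by
  have := Fintype.ofFinite K
  classical
  obtain ⟨t, ht⟩ : ∃ t : K, t ∉ ({0, 1, -1} : Finset K) := by
    by_contra h
    push Not at h
    have h1 : (Finset.univ : Finset K) ⊆ {0, 1, -1} := fun x _ => h x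
    have h2 := Finset.card_le_card h1
    rw [Finset.card_univ, ← Nat.card_eq_fintype_card] at h2
    have h3 : ({0, 1, -1} : Finset K).card ≤ 3 := Finset.card_le_three
    omega
  simp only [Finset.mem_insert, Finset.mem_singleton, not_or] at ht
  obtain ⟨h0, h1, h2⟩ := ht
  refine ⟨Units.mk0 t h0, h1, fun h => ?_⟩
  rw [Units.val_inv_eq_inv_val, Units.val_mk0] at h
  have h3 : t * t = 1 := by
    calc t * t = t * t⁻¹ := by rw [← h]
      _ = 1 := mul_inv_cancel₀ h0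
  have h4 : (t - 1) * (t + 1) = 0 := by linear_combination h3
  rcases mul_eq_zero.1 h4 with h5 | h5
  · exact h1 (sub_eq_zero.1 h5)
  · exact h2 (eq_neg_of_add_eq_zero_left h5)

/-- the block of type `A₂` -/
theorem prod_three (hq : 5 ≤ Nat.card K) {A : SpecialLinearGroup (Fin 3) K}
    (hA : Irreducible (A : Matrix (Fin 3) (Fin 3) K).charpoly) {t : Kˣ} (ht : (t : K) ≠ 1)
    {L U : SpecialLinearGroup (Fin 3) K} (hL : L ∈ LT 3 K) (hU : U ∈ UT 3 K) :
    ∃ a b, L * hab' 0 1 (by decide) t * U = (a * A * a⁻¹) * (b * A * b⁻¹) := by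
  have := Fintype.ofFinite K
  obtain ⟨s, r, hc⟩ : ∃ s r, (A : Matrix (Fin 3) (Fin 3) K).charpoly = cu s r := ⟨_, _, charpoly_of A.2 rfl rfl⟩
  obtain ⟨z, h0, h1, h2, h3⟩ := exists_z (F := K) (by rw [← Nat.card_eq_fintype_card]; exact hq)
  refine sl_three (good_of h0 h1 h2 h3 s r) hc (hc ▸ hA) _ fun a => ?_
  exact lku_ns hL hU (i := 0) (j := 2) (by
    simp only [if_pos]
    rw [if_neg (by decide), if_neg (by decide)]
    exact ht) a

/-- the block of type `A₁` -/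
theorem prod_two {g : SpecialLinearGroup (Fin 2) K} {r : ℕ} (hr : r.Prime) (h5 : 5 ≤ r) (h0 : (r : K) ≠ 0)
    (hg : orderOf g = r) (hgg : orderOf (g * g) = r) {t : Kˣ} (ht : (t : K) ≠ ((t⁻¹ : Kˣ) : K))
    {L U : SpecialLinearGroup (Fin 2) K} (hL : L ∈ LT 2 K) (hU : U ∈ UT 2 K) :
    ∃ a b, L * hab' 0 1 (by decide) t * U = (a * g * a⁻¹) * (b * (g * g) * b⁻¹) := by
  obtain ⟨n1, n2, n3, n4⟩ := tc_facts hr h5 h0 hg
  obtain ⟨n5, n6, -, -⟩ := tc_facts hr h5 h0 hgg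
  have hns : ¬ ((L * hab' 0 1 (by decide) t * U).1 0 1 = 0 ∧ (L * hab' 0 1 (by decide) t * U).1 1 0 = 0 ∧
      (L * hab' 0 1 (by decide) t * U).1 0 0 = (L * hab' 0 1 (by decide) t * U).1 1 1) := by
    rintro ⟨e1, e2, e3⟩
    refine lku_ns hL hU (i := 0) (j := 1) (lam := fun k => if k = 0 then (t : K) else if k = 1 then ((t⁻¹ : Kˣ) : K) else 1)
      (h := by rw [Fin.prod_univ_two]; simp) (by simpa using ht) ((L * hab' 0 1 (by decide) t * U).1 0 0) ?_
    change (L * hab' 0 1 (by decide) t * U).1 = _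
    ext i j
    fin_cases i <;> fin_cases j
    · simp
    · simpa using e1
    · simpa using e2
    · simpa using e3.symm
  obtain ⟨x, y, e, hx, hy⟩ := exists_factor n3 n4 hns
  obtain ⟨a, ha⟩ := conj_two hx n1 n2
  obtain ⟨b, hb⟩ := conj_two hy n5 n6
  exact ⟨a, b, by rw [e, ha, hb]⟩

/-- **`E₈(q)`, with the numerical data.** -/
theorem t6_E8_of {m r : ℕ} (hq : 5 ≤ Nat.card K) (ho : Ord (Nat.card K) m) (hm : m.Coprime 6) (hr : r.Prime) (h5 : 5 ≤ r)
    (hd : r ∣ Nat.card K ^ 2 - 1) : T6 ↥(chevE8.group K) := by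
  have h0 := cast_ne_zero (K := K) hr hd
  have hm1 := ho.hm1
  obtain ⟨A, B, hA, hB, hAm, hBm, hAB⟩ := exists_xy (K := K) (m := m) (by omega) ho.hmd
    (ho.hmc.coprime_dvd_right (by
      have := Nat.sq_sub_sq (Nat.card K) 1
      rw [one_pow] at this
      rw [this]
      exact dvd_mul_left _ _)) ho.odd
  obtain ⟨g, hg⟩ := exists_elt (K := K) hr hd
  have hgg : orderOf (g * g) = r := by
    have hcop : (orderOf g).Coprime 2 := by
      rw [hg]
      exact (Nat.coprime_primes hr Nat.prime_two).2 (by omega)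
    rw [← pow_two, hcop.orderOf_pow, hg]
  obtain ⟨t, ht1, ht2⟩ := exists_t (K := K) (by omega)
  have hcop : (m * r).Coprime 6 := Nat.Coprime.mul_left hm (Cfsg.Agent.H937.TC.cop6 hr h5)
  have hord : ∀ C : SpecialLinearGroup (Fin 2) K, orderOf C = r →
      Nat.Coprime (orderOf (PhS K ((A, B), (C, C)))) 6 := by
    intro C hC
    have hCr : C ^ r = 1 := by rw [← hC, pow_orderOf_eq_one]
    refine Nat.Coprime.coprime_dvd_left (orderOf_dvd_of_pow_eq_one ?_) hcop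
    rw [← map_pow]
    have e : (((A, B), (C, C)) : GS K) ^ (m * r) = 1 := by
      refine Prod.ext (Prod.ext ?_ ?_) (Prod.ext ?_ ?_)
      · change A ^ (m * r) = 1
        rw [pow_mul, hAm, one_pow]
      · change B ^ (m * r) = 1
        rw [pow_mul, hBm, one_pow]
      · change C ^ (m * r) = 1
        rw [mul_comm, pow_mul, hCr, one_pow]
      · change C ^ (m * r) = 1
        rw [mul_comm, pow_mul, hCr, one_pow]
    rw [e, map_one]
  refine t6_of_pc (pcS K) subS (by norm_num) (Cfsg.Agent.S1054.result chevE8 (by simp)) Cfsg.Agent.Nodes.ChevChart.irr8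
    (k := kS t) (x := ((A, B), (g, g))) (y := ((A, B), (g * g, g * g))) (mem_kS t) ?_
    (nfS (by omega) ho hr h5 hd hA hB hAB hg hg) (nfS (by omega) ho hr h5 hd hA hB hAB hgg hgg) (hord _ hg) (hord _ hgg)
  rintro ⟨⟨L1, L2⟩, ⟨L3, L4⟩⟩ ⟨⟨hL1, hL2⟩, hL3, hL4⟩ ⟨⟨U1, U2⟩, ⟨U3, U4⟩⟩ ⟨⟨hU1, hU2⟩, hU3, hU4⟩
  obtain ⟨a1, b1, e1⟩ := prod_three hq hA ht1 hL1 hU1
  obtain ⟨a2, b2, e2⟩ := prod_three hq hB ht1 hL2 hU2
  obtain ⟨a3, b3, e3⟩ := prod_two hr h5 h0 hg hgg ht2 hL3 hU3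
  obtain ⟨a4, b4, e4⟩ := prod_two hr h5 h0 hg hgg ht2 hL4 hU4
  exact ⟨((a1, a2), (a3, a4)), ((b1, b2), (b3, b4)), Prod.ext (Prod.ext e1 e2) (Prod.ext e3 e4)⟩

/-! ### The numbers -/

theorem exists_m {q : ℕ} (hq : 5 ≤ q) : ∃ m, Ord q m ∧ m.Coprime 6 := by
  have hsq : q ^ 2 - 1 = (q + 1) * (q - 1) := by
    have := Nat.sq_sub_sq q 1
    rwa [one_pow] at this
  have hfin : ∀ m : ℕ, q + 3 < m → m ∣ q ^ 2 + q + 1 → m.Coprime (q - 1) → ¬ 3 ∣ m → Ord q m ∧ m.Coprime 6 := by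
    intro m h1 h2 h3 h4
    have hodd : Odd m := by
      have h5 : Odd (q ^ 2 + q + 1) := by
        have h6 : Even (q * (q + 1)) := Nat.even_mul_succ_self q
        have h7 : q ^ 2 + q + 1 = q * (q + 1) + 1 := by ring
        rw [h7]
        exact h6.add_one
      exact Odd.of_dvd_nat h5 h2
    have hc1 : m.Coprime (q + 1) := by
      refine Nat.Coprime.coprime_dvd_left h2 ?_
      have h7 : q ^ 2 + q + 1 = q * (q + 1) + 1 := by ring
      rw [h7]
      exact (Nat.coprime_mul_right_add_left _ _ _).2 (Nat.coprime_one_left _)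
    refine ⟨⟨h1, h2, ?_, hodd⟩, ?_⟩
    · rw [hsq]
      exact Nat.Coprime.mul_right hc1 h3
    · rw [show (6 : ℕ) = 2 * 3 by norm_num]
      exact Nat.Coprime.mul_right (Nat.coprime_two_right.2 hodd)
        ((Nat.Prime.coprime_iff_not_dvd Nat.prime_three).2 h4).symm
  by_cases h3 : 3 ∣ q - 1
  · obtain ⟨k, hk⟩ := h3
    obtain rfl : q = 3 * k + 1 := by omega
    refine ⟨3 * k ^ 2 + 3 * k + 1, hfin _ ?_ ?_ ?_ ?_⟩
    · nlinarith
    · exact ⟨3, by ring⟩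
    · rw [Nat.add_sub_cancel]
      have h7 : 3 * k ^ 2 + 3 * k + 1 = (k + 1) * (3 * k) + 1 := by ring
      rw [h7]
      exact (Nat.coprime_mul_right_add_left _ _ _).2 (Nat.coprime_one_left _)
    · intro h
      have h7 : 3 * k ^ 2 + 3 * k + 1 = 3 * (k ^ 2 + k) + 1 := by ring
      rw [h7] at h
      omega
  · refine ⟨q ^ 2 + q + 1, hfin _ ?_ dvd_rfl ?_ ?_⟩
    · nlinarith
    · obtain ⟨k, rfl⟩ : ∃ k, q = k + 1 := ⟨q - 1, by omega⟩
      rw [Nat.add_sub_cancel] at h3 ⊢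
      have h7 : (k + 1) ^ 2 + (k + 1) + 1 = (k + 3) * k + 3 := by ring
      rw [h7]
      exact (Nat.coprime_mul_right_add_left _ _ _).2 ((Nat.Prime.coprime_iff_not_dvd Nat.prime_three).2 h3)
    · intro h
      have h8 : q % 3 = 0 ∨ q % 3 = 2 := by omega
      obtain ⟨k, hk⟩ : ∃ k, q = 3 * k + q % 3 := ⟨q / 3, by omega⟩
      rcases h8 with h9 | h9
      · rw [h9] at hk
        rw [hk] at h
        have h7 : (3 * k + 0) ^ 2 + (3 * k + 0) + 1 = 3 * (3 * k ^ 2 + k) + 1 := by ring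
        rw [h7] at h
        omega
      · rw [h9] at hk
        rw [hk] at h
        have h7 : (3 * k + 2) ^ 2 + (3 * k + 2) + 1 = 3 * (3 * k ^ 2 + 5 * k + 2) + 1 := by ring
        rw [h7] at h
        omega

/-- **`E₈(q)`, `q ≥ 8`, `q ≠ 17`.** -/
theorem t6_E8_gen (hq : 8 ≤ Nat.card K) (h17 : Nat.card K ≠ 17) : T6 ↥(chevE8.group K) := by
  obtain ⟨m, ho, hm⟩ := exists_m (q := Nat.card K) (by omega)
  obtain ⟨r, hr, h5, hd⟩ := Cfsg.Agent.H937.TC.exists_prime_sq (q := Nat.card K) (by omega) (by omega) (by omega) h17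
  exact t6_E8_of (by omega) ho hm hr h5 hd

end Cfsg.Agent.H240.E8S
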