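import Cfsg.Agent.H240.E8S.Tab
import Cfsg.Agent.H240.E8S.Elt
import Cfsg.Agent.H240.E8S.Frame
import Cfsg.Agent.H122.Pw.EEight

/-!
# `E₈(q)`, `q ≥ 8`, `q ≠ 17`: two classes of order prime to `6` (helper240, S2464)
-/

set_option autoImplicit false
set_option linter.unusedSectionVars false

namespace Cfsg.Agent.H240.E8S

open CoxeterSystem Cfsg.Agent.ChevalleyStructure.CoxeterGeom Cfsg.Agent.Tits.Roots Cfsg.Agent.Tits.Core
  Cfsg.Agent.Nodes.Reps Cfsg.Agent.Nodes.BNOf Cfsg.Agent.Nodes.RGDLib Cfsg.Agent.Nodes.Bruhat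
  Cfsg.Agent.Nodes.OppDec Cfsg.Agent.Nodes.LeviDec Cfsg.Agent.Nodes.KindChev Cfsg.Agent.Nodes.ChevCls
  Cfsg.Agent.OddHalf.NI.ModelChev Cfsg.Agent.Nodes.StabComb
  Cfsg.Agent.H162.GaussDec Cfsg.Agent.H162.GaussLevi Cfsg.Agent.H162.GaussSL Cfsg.Agent.H162.GaussReg
  Cfsg.Agent.H162.GaussPQ
  Cfsg.Agent.H928.Ore.Frame
open Cfsg.Lie Cfsg.Agent.ChevalleyStructure Cfsg.Agent.ChevalleyStructure.Elts
  Cfsg.Agent.ChevalleyStructure.RootVec Cfsg.Agent.ChevalleyStructure.NPerm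
  Cfsg.Agent.ChevalleyStructure.CoxeterGeomTypes Cfsg.Agent.Nodes.RGDChev Cfsg.Agent.KFacts.RgdChevCoord
open Cfsg.Agent.FixBN.FieldRGD (uu vv dd ww)
open Cfsg.Agent.TitsThree.KExcRT Cfsg.Agent.AGraded
open Cfsg.Agent.H482.Ore.Fix (Bk SimpB wt Dz dgl hab' phi_hab)
open Cfsg.Agent.H78.Pw Cfsg.Agent.H85.Pw Cfsg.Agent.H194.Pw
open Cfsg.Agent.H150.E6T (Cm commute_hom commute_two tv01 tv10 xc_commute)
open Cfsg.Agent.H122.Pw Cfsg.Agent.H777.T6 Cfsg.Agent.H267.Ore.PTwo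
open scoped MatrixGroups

universe u

/-! ### The homomorphisms -/

section Hom

theorem exists_pB (K : Type u) [Field K] : ∃ φ : Matrix.SpecialLinearGroup (Fin 3) K →* ↥(chevE8.group K),
    ∀ a b (hab : a ≠ b) c, φ (Matrix.SpecialLinearGroup.transvection hab c) =
      xc hp8 (vec chevE8 8 (rB a b)) ((sB a b : K) * c) :=
  exists_hom_S hp8 rtB.1 rtB.2.1 rtB.2.2.1 rtB.2.2.2.1 rtB.2.2.2.2.1 rtB.2.2.2.2.2

theorem vecD : (sr 7 : Fin 8 → ℤ) = vec chevE8 8 120 ∧ (-sr 7 : Fin 8 → ℤ) = vec chevE8 8 119 := by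
  have h1 : (sr 7 : Fin 8 → ℤ) = vec chevE8 8 120 := by
    rw [← vec_simple hp8 7]
    exact congrArg _ (by decide +kernel)
  refine ⟨h1, ?_⟩
  rw [h1, ← vec_neg hp8 (by decide +kernel)]
  exact congrArg _ (by decide +kernel)

theorem exists_pD (K : Type u) [Field K] : ∃ φ : Matrix.SpecialLinearGroup (Fin 2) K →* ↥(chevE8.group K),
    ∀ a b (hab : a ≠ b) c, φ (Matrix.SpecialLinearGroup.transvection hab c) =
      xc hp8 (vec chevE8 8 (rD a b)) ((sD a b : K) * c) := by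
  refine ⟨sl hp8 (K := K) 7, fun a b hab c => ?_⟩
  have e1 : ((1 : ℤ) : K) * c = c := by rw [Int.cast_one, one_mul]
  fin_cases a <;> fin_cases b
  · exact absurd rfl hab
  · have h1 : sl hp8 (K := K) 7 (uu c) = xc hp8 (vec chevE8 8 120) c := by
      rw [← vecD.1]
      exact sl_uu hp8 7 c
    exact ((congrArg (sl hp8 (K := K) 7) (tv01 c)).trans h1).trans (congrArg (xc hp8 (vec chevE8 8 120)) e1.symm)
  · have h1 : sl hp8 (K := K) 7 (vv c) = xc hp8 (vec chevE8 8 119) c := by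
      rw [← vecD.2]
      exact sl_vv hp8 7 c
    exact ((congrArg (sl hp8 (K := K) 7) (tv10 c)).trans h1).trans (congrArg (xc hp8 (vec chevE8 8 119)) e1.symm)
  · exact absurd rfl hab

variable (K : Type u) [Field K]

noncomputable def pB : Matrix.SpecialLinearGroup (Fin 3) K →* ↥(chevE8.group K) := (exists_pB K).choose
noncomputable def pD : Matrix.SpecialLinearGroup (Fin 2) K →* ↥(chevE8.group K) := (exists_pD K).choose

theorem pB_tv (a b : Fin 3) (hab : a ≠ b) (c : K) : pB K (Matrix.SpecialLinearGroup.transvection hab c) =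
    xc hp8 (vec chevE8 8 (rB a b)) ((sB a b : K) * c) := (exists_pB K).choose_spec a b hab c
theorem pD_tv (a b : Fin 2) (hab : a ≠ b) (c : K) : pD K (Matrix.SpecialLinearGroup.transvection hab c) =
    xc hp8 (vec chevE8 8 (rD a b)) ((sD a b : K) * c) := (exists_pD K).choose_spec a b hab c

variable {K}

theorem cAB (A : Matrix.SpecialLinearGroup (Fin 3) K) (B : Matrix.SpecialLinearGroup (Fin 3) K) :
    Commute (pd K A) (pB K B) := comm_gen (pd_tv K) (pB_tv K) cmAB A B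

theorem cAC (A : Matrix.SpecialLinearGroup (Fin 3) K) (B : Matrix.SpecialLinearGroup (Fin 2) K) :
    Commute (pd K A) (pe K B) := comm_gen (pd_tv K) (pe_tv K) cmAC A B

theorem cAD (A : Matrix.SpecialLinearGroup (Fin 3) K) (B : Matrix.SpecialLinearGroup (Fin 2) K) :
    Commute (pd K A) (pD K B) := comm_gen (pd_tv K) (pD_tv K) cmAD A B

theorem cBC (A : Matrix.SpecialLinearGroup (Fin 3) K) (B : Matrix.SpecialLinearGroup (Fin 2) K) :
    Commute (pB K A) (pe K B) := comm_gen (pB_tv K) (pe_tv K) cmBC A B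

theorem cBD (A : Matrix.SpecialLinearGroup (Fin 3) K) (B : Matrix.SpecialLinearGroup (Fin 2) K) :
    Commute (pB K A) (pD K B) := comm_gen (pB_tv K) (pD_tv K) cmBD A B

theorem cCD (A : Matrix.SpecialLinearGroup (Fin 2) K) (B : Matrix.SpecialLinearGroup (Fin 2) K) :
    Commute (pe K A) (pD K B) := comm_gen (pe_tv K) (pD_tv K) cmCD A B

variable (K)

noncomputable def PhAB : Matrix.SpecialLinearGroup (Fin 3) K × Matrix.SpecialLinearGroup (Fin 3) K →* ↥(chevE8.group K) :=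
  (pd K).noncommCoprod (pB K) cAB

noncomputable def PhCD : Matrix.SpecialLinearGroup (Fin 2) K × Matrix.SpecialLinearGroup (Fin 2) K →* ↥(chevE8.group K) :=
  (pe K).noncommCoprod (pD K) cCD

/-- the group of the blocks -/
abbrev GS (K : Type u) [Field K] : Type u :=
  (Matrix.SpecialLinearGroup (Fin 3) K × Matrix.SpecialLinearGroup (Fin 3) K) ×
    (Matrix.SpecialLinearGroup (Fin 2) K × Matrix.SpecialLinearGroup (Fin 2) K)

variable {K} in
theorem cABCD (p : Matrix.SpecialLinearGroup (Fin 3) K × Matrix.SpecialLinearGroup (Fin 3) K)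
    (r : Matrix.SpecialLinearGroup (Fin 2) K × Matrix.SpecialLinearGroup (Fin 2) K) : Commute (PhAB K p) (PhCD K r) :=
  ((cAC p.1 r.1).mul_left (cBC p.2 r.1)).mul_right ((cAD p.1 r.2).mul_left (cBD p.2 r.2))

/-- the Levi subgroup of type `A₂ A₂ A₁ A₁` -/
noncomputable def PhS : GS K →* ↥(chevE8.group K) := (PhAB K).noncommCoprod (PhCD K) cABCD

theorem pcS : Pc hp8 K {k | k ∈ JS} (PhS K) (((LT 3 K).prod (LT 3 K)).prod ((LT 2 K).prod (LT 2 K)))
    (((UT 3 K).prod (UT 3 K)).prod ((UT 2 K).prod (UT 2 K))) (fun q => (Qb rd q ∨ Qb rB q) ∨ (Qb re q ∨ Qb rD q)) :=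
  ((Pc.block (pd_tv K) rtd.1 rAS rtd.2.2.2.1).prod (Pc.block (pB_tv K) rtB.1 rBS rtB.2.2.2.1) cAB).prod
    ((Pc.block (pe_tv K) rte.1 rCS rte.2.1).prod (Pc.block (pD_tv K) rtD.1 rDS rtD.2.1) cCD) cABCD

end Hom

/-! ### The torus part -/

section torus

variable {K : Type u} [Field K]

/-- the torus part, `diag(t, t⁻¹, 1)` and `diag(t, t⁻¹)` -/
noncomputable def kS (t : Kˣ) : GS K :=
  ((hab' 0 1 (by decide) t, hab' 0 1 (by decide) t), (hab' 0 1 (by decide) t, hab' 0 1 (by decide) t))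

theorem mem_block {n : ℕ} {r : Fin (n + 2) → Fin (n + 2) → ℕ} {j : Fin (n + 1) → Fin 8}
    (S : SimpB chevE8 8 n r j) {φ : Matrix.SpecialLinearGroup (Fin (n + 2)) K →* ↥(chevE8.group K)}
    {s : Fin (n + 2) → Fin (n + 2) → ℤ} (hφ : ∀ a b (hab : a ≠ b) c,
      φ (Matrix.SpecialLinearGroup.transvection hab c) = xc hp8 (vec chevE8 8 (r a b)) ((s a b : K) * c))
    (hs : ∀ a b, s a b * s a b = 1) (hs' : ∀ a b, s b a = s a b) (a : Fin (n + 1)) (t : Kˣ) :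
    φ (hab' a.castSucc a.succ (Fin.castSucc_lt_succ (i := a)).ne t) ∈ TT chevE8 K := by
  rw [phi_hab hp8 S (s := fun a b => ((s a b : ℤ) : K)) hφ (fun a => by
    rw [hs' a.castSucc a.succ, ← Int.cast_mul, hs, Int.cast_one]) a t]
  exact hc_mem hp8 (j a) t.ne_zero

theorem mem_kS (t : Kˣ) : PhS K (kS t) ∈ TT chevE8 K := by
  have h1 : pd K (hab' 0 1 (by decide) t) ∈ TT chevE8 K :=
    mem_block ⟨simd.1, simd.2⟩ (pd_tv K) rtd.2.2.2.1 rtd.2.2.2.2.1 0 t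
  have h2 : pB K (hab' 0 1 (by decide) t) ∈ TT chevE8 K :=
    mem_block ⟨simB.1, simB.2⟩ (pB_tv K) rtB.2.2.2.1 rtB.2.2.2.2.1 0 t
  have h3 : pe K (hab' 0 1 (by decide) t) ∈ TT chevE8 K :=
    mem_block ⟨sime.1, sime.2⟩ (pe_tv K) rte.2.1 rte.2.2.1 0 t
  have h4 : pD K (hab' 0 1 (by decide) t) ∈ TT chevE8 K :=
    mem_block ⟨simD.1, simD.2⟩ (pD_tv K) rtD.2.1 rtD.2.2.1 0 t
  exact mul_mem (mul_mem h1 h2) (mul_mem h3 h4)

end torus

/-! ### Fixed points -/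

section nf

variable {K : Type u} [Field K] [Finite K]

/-- the numerical conditions on the orders -/
structure Ord (q m : ℕ) : Prop where
  hm1 : q + 3 < m
  hmd : m ∣ q ^ 2 + q + 1
  hmc : m.Coprime (q ^ 2 - 1)
  odd : Odd m

theorem z_pow_ne {K' : Type u} [Field K'] {m : ℕ} (hq : 3 ≤ Nat.card K) (ho : Ord (Nat.card K) m) {z : K'}
    (hz : orderOf z = m) {a b : ℕ} (_ha : a < 3) (hb : b < 3) :
    z ^ Nat.card K ^ a ≠ (z ^ 2) ^ Nat.card K ^ b ∧ z ^ Nat.card K ^ a * (z ^ 2) ^ Nat.card K ^ b ≠ 1 := by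
  obtain ⟨q, hqe⟩ : ∃ q, Nat.card K = q := ⟨_, rfl⟩
  rw [hqe] at hq ho ⊢
  have hm1 := ho.hm1
  have hpow : ∀ k : ℕ, z ^ k = 1 ↔ m ∣ k := fun k => by rw [← hz, orderOf_dvd_iff_pow_eq_one]
  have hz0 : z ≠ 0 := by
    rintro rfl
    have h1 := (hpow m).2 dvd_rfl
    rw [zero_pow (by omega)] at h1
    exact zero_ne_one h1
  have hn : z ^ (q ^ 2 + q + 1) = 1 := (hpow _).2 ho.hmd
  have hfix : z ^ q ^ 3 = z := by
    have h1 : q ^ 3 = (q ^ 2 + q + 1) * (q - 1) + 1 := by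
      obtain ⟨k, rfl⟩ : ∃ k, q = k + 1 := ⟨q - 1, by omega⟩
      rw [Nat.add_sub_cancel]
      ring
    rw [h1, pow_succ, pow_mul, hn, one_pow, one_mul]
  have hmod : ∀ n c : ℕ, z ^ q ^ (c + 3 * n) = z ^ q ^ c := by
    intro n
    induction n with
    | zero => intro c; rfl
    | succ n ih =>
      intro c
      rw [Nat.mul_succ, ← add_assoc, pow_add q _ 3, mul_comm, pow_mul, hfix, ih]
  have hmod' : ∀ n : ℕ, z ^ q ^ n = z ^ q ^ (n % 3) := fun n => by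
    conv_lhs => rw [← Nat.mod_add_div n 3]
    exact hmod _ _
  have k1 : ∀ c < 3, z ^ q ^ c ≠ z ^ 2 := by
    intro c hc h
    interval_cases c
    · rw [pow_zero, pow_one, pow_two] at h
      have h1 : z = 1 := (mul_left_cancel₀ hz0 (by rw [mul_one]; exact h)).symm
      have h2 : m ∣ 1 := (hpow 1).1 (by rw [h1, one_pow])
      have := Nat.le_of_dvd one_pos h2
      omega
    · rw [pow_one] at h
      have h2 : z ^ (q - 2) = 1 := by
        have h3 : z ^ (q - 2) * z ^ 2 = 1 * z ^ 2 := by rw [← pow_add, Nat.sub_add_cancel (by omega), h, one_mul]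
        exact mul_right_cancel₀ (pow_ne_zero 2 hz0) h3
      have := Nat.le_of_dvd (by omega) ((hpow _).1 h2)
      omega
    · have h2 : z ^ (q + 3) = 1 := by
        calc z ^ (q + 3) = z ^ 2 * z ^ (q + 1) := by rw [← pow_add]; congr 1; omega
          _ = z ^ (q ^ 2 + q + 1) := by rw [← h, ← pow_add, add_assoc]
          _ = 1 := hn
      have := Nat.le_of_dvd (by omega) ((hpow _).1 h2)
      omega
  have k2 : ∀ c < 3, z ^ q ^ c * z ^ 2 ≠ 1 := by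
    intro c hc h
    interval_cases c
    · rw [pow_zero, pow_one, ← pow_succ'] at h
      have := Nat.le_of_dvd (by omega) ((hpow _).1 h)
      omega
    · rw [pow_one, ← pow_add] at h
      have := Nat.le_of_dvd (by omega) ((hpow _).1 h)
      omega
    · have h2 : z ^ (q - 1) = 1 := by
        have h3 : z ^ (q ^ 2) * z ^ 2 * z ^ (q - 1) = 1 := by
          rw [← pow_add, ← pow_add, ← hn]
          congr 1
          omega
        rwa [h, one_mul] at h3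
      have := Nat.le_of_dvd (by omega) ((hpow _).1 h2)
      omega
  have hb3 : ((z ^ 2) ^ q ^ b) ^ q ^ (3 - b) = z ^ 2 := by
    rw [← pow_mul, ← pow_add, show b + (3 - b) = 3 by omega, ← pow_mul, mul_comm, pow_mul, hfix]
  have ha3 : (z ^ q ^ a) ^ q ^ (3 - b) = z ^ q ^ ((a + (3 - b)) % 3) := by
    rw [← pow_mul, ← pow_add, hmod']
  constructor
  · intro h
    have h1 := congrArg (fun x => x ^ q ^ (3 - b)) h
    simp only [hb3, ha3] at h1
    exact k1 _ (Nat.mod_lt _ (by norm_num)) h1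
  · intro h
    have h1 := congrArg (fun x => x ^ q ^ (3 - b)) h
    simp only [mul_pow, hb3, ha3, one_pow] at h1
    exact k2 _ (Nat.mod_lt _ (by norm_num)) h1

theorem ws {n : ℕ} {F : Type*} [Field F] {lam : Fin (n + 2) → F} {j : Fin (n + 1) → Fin 8} {q : ℕ} (h0 : ∀ k, lam k ≠ 0)
    (h1 : ∏ k, lam k = 1) (h : Wo j q) :
    ∃ a, (∏ k, lam k ^ wt chevE8 j q k = lam a) ∨ (∏ k, lam k ^ wt chevE8 j q k = (lam a)⁻¹) := by
  obtain ⟨a, hw | hw⟩ := h
  · exact ⟨a, Or.inl (prod_one h0 h1 hw)⟩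
  · exact ⟨a, Or.inr (prod_inv_one h0 h1 hw)⟩

theorem wz {n : ℕ} {F : Type*} [Field F] {lam : Fin (n + 2) → F} {j : Fin (n + 1) → Fin 8} {q : ℕ} (h : Wz j q) :
    ∏ k, lam k ^ wt chevE8 j q k = 1 := Finset.prod_eq_one fun k _ => by rw [h k, zpow_zero]

/-- **No fixed points, `A₂ A₂ A₁ A₁`.** -/
theorem nfS {m r : ℕ} (hq : 3 ≤ Nat.card K) (ho : Ord (Nat.card K) m) (hr : r.Prime) (h5 : 5 ≤ r)
    (hd : r ∣ Nat.card K ^ 2 - 1) {A B : Matrix.SpecialLinearGroup (Fin 3) K} {C E : Matrix.SpecialLinearGroup (Fin 2) K}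
    (hA : Irreducible (A : Matrix (Fin 3) (Fin 3) K).charpoly) (hB : Irreducible (B : Matrix (Fin 3) (Fin 3) K).charpoly)
    (hAB : ∀ (K' : Type u) [Field K'] [Finite K'] [Algebra K K'] (z : K'),
        Polynomial.aeval z (A : Matrix (Fin 3) (Fin 3) K).charpoly = 0 →
        orderOf z = m ∧ Polynomial.aeval (z ^ 2) (B : Matrix (Fin 3) (Fin 3) K).charpoly = 0)
    (hC : orderOf C = r) (hE : orderOf E = r) :
    NF (VJ cs8 hp8.isCartan (XX chevE8 8 K) {k | k ∈ JS}) (PhS K ((A, B), (C, E))) ∧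
      NF (VNJ cs8 hp8.isCartan (XX chevE8 8 K) {k | k ∈ JS}) (PhS K ((A, B), (C, E))) := by
  classical
  have hr0 := cast_ne_zero (K := K) hr hd
  obtain ⟨f, hf⟩ : ∃ f, f = (A : Matrix (Fin 3) (Fin 3) K).charpoly * ((C : Matrix (Fin 2) (Fin 2) K).charpoly *
    (E : Matrix (Fin 2) (Fin 2) K).charpoly) := ⟨_, rfl⟩
  have hf0 : f ≠ 0 := by
    rw [hf]
    exact mul_ne_zero hA.ne_zero (mul_ne_zero (Matrix.charpoly_monic _).ne_zero (Matrix.charpoly_monic _).ne_zero)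
  obtain ⟨K', _, hfin, _, hs⟩ := exists_split f
  have hf1 : f.map (algebraMap K K') ≠ 0 := (Polynomial.map_ne_zero_iff (algebraMap K K').injective).2 hf0
  have key : ∀ g : Polynomial K, g ∣ f → Polynomial.Splits (g.map (algebraMap K K')) := fun g hg =>
    hs.of_dvd hf1 (Polynomial.map_dvd (algebraMap K K') hg)
  obtain ⟨z, hz⟩ := (key _ (hf ▸ dvd_mul_right _ _)).exists_eval_eq_zero (by
    rw [Polynomial.degree_map]
    exact hA.degree_pos.ne')
  rw [Polynomial.eval_map_algebraMap] at hz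
  obtain ⟨hzm, hz2⟩ := hAB K' z hz
  have S := spec_of_root hA K' hz
  have S' := spec_of_root hB K' hz2
  obtain ⟨v, hv, hv0, hvi, hvs⟩ := exists_v hr h5 hr0 hC (key _ (hf ▸ (dvd_mul_right _ _).mul_left _))
  obtain ⟨w, hw, hw0, hwi, hws⟩ := exists_v hr h5 hr0 hE (key _ (hf ▸ (dvd_mul_left _ _).mul_left _))
  obtain ⟨ch, hch⟩ := CharP.exists K'
  have : Fact ch.Prime := ⟨(CharP.char_is_prime_or_zero K' ch).resolve_right (CharP.char_ne_zero_of_finite K' ch)⟩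
  obtain ⟨i, hi⟩ : ∃ i : K →+* K', i = algebraMap K K' := ⟨_, rfl⟩
  rw [← hi] at S S' hvs hws
  have BA : Bk hp8 i {k | k ∈ JS} 1 rd jd (pd K) (pd K') (fun a b => ((sd a b : ℤ) : K)) :=
    { simp := ⟨simd.1, simd.2⟩
      rlt := rtd.1
      rJ := rAS
      hφ := pd_tv K
      hφ' := fun a b hab c => by rw [pd_tv, map_intCast]
      ss := fun a => by rw [rtd.2.2.2.2.1 a.castSucc a.succ, ← Int.cast_mul, rtd.2.2.2.1, Int.cast_one] }
  have BB : Bk hp8 i {k | k ∈ JS} 1 rB jB (pB K) (pB K') (fun a b => ((sB a b : ℤ) : K)) :=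
    { simp := ⟨simB.1, simB.2⟩
      rlt := rtB.1
      rJ := rBS
      hφ := pB_tv K
      hφ' := fun a b hab c => by rw [pB_tv, map_intCast]
      ss := fun a => by rw [rtB.2.2.2.2.1 a.castSucc a.succ, ← Int.cast_mul, rtB.2.2.2.1, Int.cast_one] }
  have BC : Bk hp8 i {k | k ∈ JS} 0 re je (pe K) (pe K') (fun a b => ((se a b : ℤ) : K)) :=
    { simp := ⟨sime.1, sime.2⟩
      rlt := rte.1
      rJ := rCS
      hφ := pe_tv K
      hφ' := fun a b hab c => by rw [pe_tv, map_intCast]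
      ss := fun a => by rw [rte.2.2.1 a.castSucc a.succ, ← Int.cast_mul, rte.2.1, Int.cast_one] }
  have BD : Bk hp8 i {k | k ∈ JS} 0 rD jD (pD K) (pD K') (fun a b => ((sD a b : ℤ) : K)) :=
    { simp := ⟨simD.1, simD.2⟩
      rlt := rtD.1
      rJ := rDS
      hφ := pD_tv K
      hφ' := fun a b hab c => by rw [pD_tv, map_intCast]
      ss := fun a => by rw [rtD.2.2.1 a.castSucc a.succ, ← Int.cast_mul, rtD.2.1, Int.cast_one] }
  obtain ⟨g1, hg1⟩ := Cfsg.Agent.H934.MF.diag_map i (A : Matrix (Fin 3) (Fin 3) K) S.inj S.split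
  obtain ⟨g2, hg2⟩ := Cfsg.Agent.H934.MF.diag_map i (B : Matrix (Fin 3) (Fin 3) K) S'.inj S'.split
  obtain ⟨g3, hg3⟩ := Cfsg.Agent.H934.MF.diag_map i (C : Matrix (Fin 2) (Fin 2) K) hvi hvs
  obtain ⟨g4, hg4⟩ := Cfsg.Agent.H934.MF.diag_map i (E : Matrix (Fin 2) (Fin 2) K) hwi hws
  have rAB := BA.comm_range₂ hp8 BB fun a b hab c d hcd x y => (cm_comm (cmAB a b hab c d hcd) x y).eq
  have rAC := BA.comm_range₂ hp8 BC fun a b hab c d hcd x y => (cm_comm (cmAC a b hab c d hcd) x y).eq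
  have rAD := BA.comm_range₂ hp8 BD fun a b hab c d hcd x y => (cm_comm (cmAD a b hab c d hcd) x y).eq
  have rBC := BB.comm_range₂ hp8 BC fun a b hab c d hcd x y => (cm_comm (cmBC a b hab c d hcd) x y).eq
  have rBD := BB.comm_range₂ hp8 BD fun a b hab c d hcd x y => (cm_comm (cmBD a b hab c d hcd) x y).eq
  have rCD := BC.comm_range₂ hp8 BD fun a b hab c d hcd x y => (cm_comm (cmCD a b hab c d hcd) x y).eq
  have hcomm : ∀ x ∈ (pd K').range ⊔ (pB K').range, ∀ y ∈ (pe K').range ⊔ (pD K').range, x * y = y * x :=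
    Cfsg.Agent.H482.Ore.Fix.comm_sup
      (fun x hx y hy => (Cfsg.Agent.H482.Ore.Fix.comm_sup (fun y hy x hx => (rAC x hx y hy).symm)
        (fun y hy x hx => (rAD x hx y hy).symm) y hy x hx).symm)
      (fun x hx y hy => (Cfsg.Agent.H482.Ore.Fix.comm_sup (fun y hy x hx => (rBC x hx y hy).symm)
        (fun y hy x hx => (rBD x hx y hy).symm) y hy x hx).symm)
  refine (((BA.dz hp8 hg1).mul hp8 (BB.dz hp8 hg2) rAB).mul hp8 ((BC.dz hp8 hg3).mul hp8 (BD.dz hp8 hg4) rCD) hcomm).nf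
    hp8 ch fun q hq' hk => ?_
  have hz0 : z ≠ 0 := z0 S (by norm_num)
  have hla : ∀ k : Fin 3, z ^ Nat.card K ^ (k : ℕ) ≠ 0 := fun k => pow_ne_zero _ hz0
  have hlb : ∀ k : Fin 3, (z ^ 2) ^ Nat.card K ^ (k : ℕ) ≠ 0 := fun k => pow_ne_zero _ (pow_ne_zero _ hz0)
  have hlc : ∀ k : Fin 2, (![v, v⁻¹] : Fin 2 → K') k ≠ 0 := fun k => by
    fin_cases k
    · exact hv0
    · exact inv_ne_zero hv0
  have hld : ∀ k : Fin 2, (![w, w⁻¹] : Fin 2 → K') k ≠ 0 := fun k => by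
    fin_cases k
    · exact hw0
    · exact inv_ne_zero hw0
  have hpc : ∏ k : Fin 2, (![v, v⁻¹] : Fin 2 → K') k = 1 := by
    rw [Fin.prod_univ_two]
    exact mul_inv_cancel₀ hv0
  have hpd : ∏ k : Fin 2, (![w, w⁻¹] : Fin 2 → K') k = 1 := by
    rw [Fin.prod_univ_two]
    exact mul_inv_cancel₀ hw0
  have hzpow : ∀ a : ℕ, (z ^ Nat.card K ^ a) ^ m = 1 := fun a => by
    rw [← pow_mul, mul_comm, pow_mul, ← hzm, pow_orderOf_eq_one, one_pow]
  have hzpow2 : ∀ a : ℕ, ((z ^ 2) ^ Nat.card K ^ a) ^ m = 1 := fun a => by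
    rw [← pow_mul, mul_comm, ← pow_mul, mul_left_comm, pow_mul, ← hzm, pow_orderOf_eq_one, one_pow]
  have hvpow : ∀ k : Fin 2, (![v, v⁻¹] : Fin 2 → K') k ^ r = 1 := fun k => by
    have h1 : v ^ r = 1 := by rw [← hv, pow_orderOf_eq_one]
    fin_cases k
    · exact h1
    · change v⁻¹ ^ r = 1
      rw [inv_pow, h1, inv_one]
  have hwpow : ∀ k : Fin 2, (![w, w⁻¹] : Fin 2 → K') k ^ r = 1 := fun k => by
    have h1 : w ^ r = 1 := by rw [← hw, pow_orderOf_eq_one]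
    fin_cases k
    · exact h1
    · change w⁻¹ ^ r = 1
      rw [inv_pow, h1, inv_one]
  have hv1 : ∀ k : Fin 2, (![v, v⁻¹] : Fin 2 → K') k ≠ 1 := fun k => by
    have h1 : v ≠ 1 := by
      rintro rfl
      rw [orderOf_one] at hv
      omega
    fin_cases k
    · exact h1
    · exact fun h => h1 (inv_eq_one.1 h)
  have hw1 : ∀ k : Fin 2, (![w, w⁻¹] : Fin 2 → K') k ≠ 1 := fun k => by
    have h1 : w ≠ 1 := by
      rintro rfl
      rw [orderOf_one] at hw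
      omega
    fin_cases k
    · exact h1
    · exact fun h => h1 (inv_eq_one.1 h)
  obtain ⟨PA, hPA⟩ : ∃ PA, PA = ∏ k : Fin 3, (z ^ Nat.card K ^ (k : ℕ)) ^ wt chevE8 jd q k := ⟨_, rfl⟩
  obtain ⟨PB, hPB⟩ : ∃ PB, PB = ∏ k : Fin 3, ((z ^ 2) ^ Nat.card K ^ (k : ℕ)) ^ wt chevE8 jB q k := ⟨_, rfl⟩
  obtain ⟨PC, hPC⟩ : ∃ PC, PC = ∏ k : Fin 2, (![v, v⁻¹] : Fin 2 → K') k ^ wt chevE8 je q k := ⟨_, rfl⟩
  obtain ⟨PD, hPD⟩ : ∃ PD, PD = ∏ k : Fin 2, (![w, w⁻¹] : Fin 2 → K') k ^ wt chevE8 jD q k := ⟨_, rfl⟩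
  have hPAm : PA ^ m = 1 := hPA ▸ prod_pow_one (fun k => hzpow k) _
  have hPBm : PB ^ m = 1 := hPB ▸ prod_pow_one (fun k => hzpow2 k) _
  have hPCr : PC ^ r = 1 := hPC ▸ prod_pow_one hvpow _
  have hPDr : PD ^ r = 1 := hPD ▸ prod_pow_one hwpow _
  change (∏ k : Fin 3, (z ^ Nat.card K ^ (k : ℕ)) ^ wt chevE8 jd q k) *
    (∏ k : Fin 3, ((z ^ 2) ^ Nat.card K ^ (k : ℕ)) ^ wt chevE8 jB q k) *
    ((∏ k : Fin 2, (![v, v⁻¹] : Fin 2 → K') k ^ wt chevE8 je q k) *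
      ∏ k : Fin 2, (![w, w⁻¹] : Fin 2 → K') k ^ wt chevE8 jD q k) ≠ 1
  rw [← hPA, ← hPB, ← hPC, ← hPD]
  intro h
  have hcop : m.Coprime r := ho.hmc.coprime_dvd_right hd
  have hx : PA * PB = 1 := by
    have h1 : (PA * PB) ^ r = 1 := by
      have h2 := congrArg (fun t => t ^ r) h
      simp only [mul_pow, hPCr, hPDr, mul_one, one_pow] at h2
      rw [mul_pow, h2]
    have h2 : (PA * PB) ^ m = 1 := by rw [mul_pow, hPAm, hPBm, mul_one]
    have h3 := Nat.dvd_gcd (orderOf_dvd_of_pow_eq_one h2) (orderOf_dvd_of_pow_eq_one h1)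
    rw [hcop] at h3
    exact orderOf_eq_one_iff.1 (Nat.dvd_one.1 h3)
  have hy : PC * PD = 1 := by rwa [hx, one_mul] at h
  rcases outS q hq' hk with ⟨ha, hb⟩ | ⟨ha, hb⟩ | ⟨ha, hb⟩ | ⟨-, ⟨hc, hd'⟩ | ⟨hc, hd'⟩⟩
  · rw [hPB, wz hb, mul_one] at hx
    obtain ⟨a, h1 | h1⟩ := ws hla (prod_lam S) ha
    · exact ne_one S (by norm_num) a (by rw [← h1, ← hPA, hx])
    · exact ne_one S (by norm_num) a (inv_eq_one.1 (by rw [← h1, ← hPA, hx]))
  · rw [hPA, wz ha, one_mul] at hx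
    obtain ⟨a, h1 | h1⟩ := ws hlb (prod_lam S') hb
    · exact ne_one S' (by norm_num) a (by rw [← h1, ← hPB, hx])
    · exact ne_one S' (by norm_num) a (inv_eq_one.1 (by rw [← h1, ← hPB, hx]))
  · obtain ⟨a, h1 | h1⟩ := ws hla (prod_lam S) ha
    · obtain ⟨b, h2 | h2⟩ := ws hlb (prod_lam S') hb
      · obtain ⟨-, h3⟩ := z_pow_ne (K := K) hq ho hzm a.2 b.2
        exact h3 (by rw [← h1, ← h2, ← hPA, ← hPB, hx])
      · obtain ⟨h3, -⟩ := z_pow_ne (K := K) hq ho hzm a.2 b.2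
        rw [hPA, hPB, h1, h2] at hx
        exact h3 (mul_inv_eq_one₀ (hlb b) |>.1 hx)
    · obtain ⟨b, h2 | h2⟩ := ws hlb (prod_lam S') hb
      · obtain ⟨h3, -⟩ := z_pow_ne (K := K) hq ho hzm a.2 b.2
        rw [hPA, hPB, h1, h2] at hx
        exact h3 ((inv_mul_eq_one₀ (hla a)).1 hx)
      · obtain ⟨-, h3⟩ := z_pow_ne (K := K) hq ho hzm a.2 b.2
        rw [hPA, hPB, h1, h2, ← mul_inv] at hx
        exact h3 (inv_eq_one.1 hx)
  · rw [hPD, wz hd', mul_one] at hy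
    obtain ⟨a, h1 | h1⟩ := ws hlc hpc hc
    · exact hv1 a (by rw [← h1, ← hPC, hy])
    · exact hv1 a (inv_eq_one.1 (by rw [← h1, ← hPC, hy]))
  · rw [hPC, wz hc, one_mul] at hy
    obtain ⟨a, h1 | h1⟩ := ws hld hpd hd'
    · exact hw1 a (by rw [← h1, ← hPD, hy])
    · exact hw1 a (inv_eq_one.1 (by rw [← h1, ← hPD, hy]))

end nf

end Cfsg.Agent.H240.E8S
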