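import Cfsg.Agent.H122.Pw.TabE8

/-!
# Tables for the Levi subgroup of type `A₂ A₂ A₁ A₁` of `E₈` (helper240, S2464)

nodes `1, 3` (block `A`, tables `rd`, `sd`, `jd` of H122), `5, 6` (block `B`), `2` (block `C`, `re`, `se`, `je`), `8` (block `D`).
-/

set_option autoImplicit false
set_option linter.unusedSectionVars false

namespace Cfsg.Agent.H240.E8S

open Cfsg.Lie Cfsg.Agent.TitsThree.KExcRT Cfsg.Agent.Nodes.RGDChev Cfsg.Agent.KFacts.RgdChevCoord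
open Cfsg.Agent.H482.Ore.Fix (wt)
open Cfsg.Agent.H150.E6T (Cm)
open Cfsg.Agent.H194.Pw (ind)
open Cfsg.Agent.ChevalleyStructure.RootVec Cfsg.Agent.ChevalleyStructure.CoxeterGeomTypes
open Cfsg.Agent.H122.Pw

/-! ### The blocks -/

/-- nodes `5, 6` -/
def rB : Fin 3 → Fin 3 → ℕ := ![![0, 126, 127], ![113, 0, 123], ![112, 116, 0]]
def sB : Fin 3 → Fin 3 → ℤ := ![![1, 1, -1], ![1, 1, 1], ![-1, 1, 1]]
def jB : Fin 2 → Fin 8 := ![4, 5]

/-- node `8` -/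
def rD : Fin 2 → Fin 2 → ℕ := ![![0, 120], ![119, 0]]
def sD : Fin 2 → Fin 2 → ℤ := ![![1, 1], ![1, 1]]
def jD : Fin 1 → Fin 8 := ![7]

theorem rtB : RTa chevE8 rB ∧ RTb chevE8 rB sB ∧ RTc chevE8 rB ∧ RTd sB ∧ (∀ i j, sB j i = sB i j) ∧
    ∀ i j, i ≠ j → rB j i = chevE8.neg (rB i j) := by decide +kernel

theorem rtD : RTa chevE8 rD ∧ RTd sD ∧ (∀ i j, sD j i = sD i j) ∧ ∀ i j, i ≠ j → rD j i = chevE8.neg (rD i j) := by
  decide +kernel

theorem simB : (∀ a : Fin 2, rB a.castSucc a.succ = chevE8.simple (jB a)) ∧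
    ∀ a : Fin 2, rB a.succ a.castSucc = chevE8.neg (chevE8.simple (jB a)) := by decide +kernel

theorem simD : (∀ a : Fin 1, rD a.castSucc a.succ = chevE8.simple (jD a)) ∧
    ∀ a : Fin 1, rD a.succ a.castSucc = chevE8.neg (chevE8.simple (jD a)) := by decide +kernel

/-! ### The Levi subgroup -/

/-- `A₂ A₂ A₁ A₁` -/
def JS : List (Fin 8) := [0, 1, 2, 4, 5, 7]

theorem rAS : ∀ a b : Fin 3, a ≠ b → ∀ k : Fin 8, k ∉ JS → vec chevE8 8 (rd a b) k = 0 := by decide +kernel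
theorem rBS : ∀ a b : Fin 3, a ≠ b → ∀ k : Fin 8, k ∉ JS → vec chevE8 8 (rB a b) k = 0 := by decide +kernel
theorem rCS : ∀ a b : Fin 2, a ≠ b → ∀ k : Fin 8, k ∉ JS → vec chevE8 8 (re a b) k = 0 := by decide +kernel
theorem rDS : ∀ a b : Fin 2, a ≠ b → ∀ k : Fin 8, k ∉ JS → vec chevE8 8 (rD a b) k = 0 := by decide +kernel

theorem cmAB : ∀ a b : Fin 3, a ≠ b → ∀ c d : Fin 3, c ≠ d → Cm chevE8 (rd a b) (rB c d) := by decide +kernel
theorem cmAC : ∀ a b : Fin 3, a ≠ b → ∀ c d : Fin 2, c ≠ d → Cm chevE8 (rd a b) (re c d) := by decide +kernel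
theorem cmAD : ∀ a b : Fin 3, a ≠ b → ∀ c d : Fin 2, c ≠ d → Cm chevE8 (rd a b) (rD c d) := by decide +kernel
theorem cmBC : ∀ a b : Fin 3, a ≠ b → ∀ c d : Fin 2, c ≠ d → Cm chevE8 (rB a b) (re c d) := by decide +kernel
theorem cmBD : ∀ a b : Fin 3, a ≠ b → ∀ c d : Fin 2, c ≠ d → Cm chevE8 (rB a b) (rD c d) := by decide +kernel
theorem cmCD : ∀ a b : Fin 2, a ≠ b → ∀ c d : Fin 2, c ≠ d → Cm chevE8 (re a b) (rD c d) := by decide +kernel

theorem subS : ∀ q < chevE8.nroots, (∀ k : Fin 8, k ∉ JS → vec chevE8 8 q k = 0) →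
    (Qb rd q ∨ Qb rB q) ∨ (Qb re q ∨ Qb rD q) := by
  intro q hq
  revert q
  refine @of_decide_eq_true _ ?_ ?_
  · refine @Nat.decidableBallLT _ _ fun q _ => ?_
    infer_instance
  · decide +kernel

/-- weight zero -/
def Wz {n : ℕ} (j : Fin (n + 1) → Fin 8) (q : ℕ) : Prop := ∀ k : Fin (n + 2), wt chevE8 j q k = 0

instance decWz {n : ℕ} (j : Fin (n + 1) → Fin 8) (q : ℕ) : Decidable (Wz j q) := by
  unfold Wz
  infer_instance

theorem outS : ∀ q < chevE8.nroots, (∃ k : Fin 8, k ∉ JS ∧ vec chevE8 8 q k ≠ 0) →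
    (Wo jd q ∧ Wz jB q) ∨ (Wz jd q ∧ Wo jB q) ∨ (Wo jd q ∧ Wo jB q) ∨
      ((Wz jd q ∧ Wz jB q) ∧ ((Wo je q ∧ Wz jD q) ∨ (Wz je q ∧ Wo jD q))) := by
  intro q hq
  revert q
  refine @of_decide_eq_true _ ?_ ?_
  · refine @Nat.decidableBallLT _ _ fun q _ => ?_
    infer_instance
  · decide +kernel

end Cfsg.Agent.H240.E8S
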